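import Groth.Agent.Lib.Helper3.InjLim.F
import Groth.Agent.Lib.Helper1.CohLen
import Groth.Agent.Lib.Lead.QC.SuppPullback
import Groth.Agent.Lib.Helper5.Lim.Constructible

/-!
# Towards the open locus where a map to a flat module becomes an isomorphism (EGA IV 9.4.7-ish)

* `quasiCompact_ι_of_isLocallyConstructible`: an open subscheme whose underlying set is locally
  constructible has quasi-compact inclusion.
* `mono_pullback_iff`: for an epimorphism `u : F ⟶ G` of finitely presented modules with `G` flat
  over the base, the base change of `u` is a monomorphism iff the base change misses the support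
  of the kernel.
-/

set_option autoImplicit false
universe u
open CategoryTheory CategoryTheory.Limits AlgebraicGeometry TopologicalSpace Opposite

namespace Groth.Agent.H3.IsoLocus

open Groth.Agent.LD.QC Groth.Agent.H1.SchFlat Groth.Agent.H3.ArtFlat Groth.Agent.H3.InjLim

section Topology

/-- an open subscheme whose underlying set is locally constructible has quasi-compact inclusion -/
theorem quasiCompact_ι_of_isLocallyConstructible {S : Scheme.{u}} (U : S.Opens)
    (hU : Topology.IsLocallyConstructible (U : Set S)) : QuasiCompact U.ι := by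
  rw [quasiCompact_iff_forall_isAffineOpen]
  intro V hV
  haveI : IsAffine V.toScheme := hV
  have h1 : Topology.IsLocallyConstructible (V.ι ⁻¹' (U : Set S)) :=
    hU.preimage_of_isOpenEmbedding V.ι.isOpenEmbedding
  have h2 : Topology.IsConstructible (V.ι ⁻¹' (U : Set S)) := h1.isConstructible
  have h3 : IsCompact (V.ι ⁻¹' (U : Set S)) := Groth.Agent.H5.Lim.isCompact_of_isConstructible h2
  have h4 : IsCompact (V.ι '' (V.ι ⁻¹' (U : Set S))) := h3.image V.ι.continuous
  rw [U.ι.isEmbedding.isCompact_iff]
  convert h4 using 1
  rw [Set.image_preimage_eq_inter_range, Scheme.Opens.range_ι]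
  change U.ι '' (U.ι ⁻¹' (V : Set S)) = _
  rw [Set.image_preimage_eq_inter_range, Scheme.Opens.range_ι, Set.inter_comm]

end Topology

section MonoPart

variable {X S X' T : Scheme.{u}} (f : X ⟶ S) [LocallyOfFinitePresentation f]
  {p : X' ⟶ X} {q : X' ⟶ T} {t : T ⟶ S}

lemma stalkFun_zero_apply {Y : Scheme.{u}} {A B : Y.Modules} (y : Y) (m : A.presheaf.stalk y) :
    stalkFun (0 : A ⟶ B) y m = 0 := by
  obtain ⟨W, hyW, s, rfl⟩ := TopCat.Presheaf.exists_germ_eq A.presheaf m
  rw [stalkFun_germ]
  change B.presheaf.germ W y hyW 0 = 0
  rw [map_zero]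

set_option maxHeartbeats 800000 in
/-- for an epimorphism `u : F ⟶ G` of finitely presented modules with `G` flat over the base, the
base change of `u` is a monomorphism iff the base change misses the support of the kernel -/
theorem mono_pullback_iff (hc : IsPullback p q f t) {F G : X.Modules}
    (hF : F.IsFinitePresentation) (hG : G.IsFinitePresentation)
    (hGfl : FlatMod.IsFlatOver f G) (u : F ⟶ G) [Epi u] :
    Mono ((Scheme.Modules.pullback p).map u) ↔
      ∀ x' : X', Subsingleton ((kernel u).presheaf.stalk (p x')) := by
  have := hF
  have := hG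
  haveI hFq : F.IsQuasicoherent := inferInstance
  haveI hGq : G.IsQuasicoherent := inferInstance
  have hK : (kernel u).IsFinitePresentation := isFinitePresentation_kernel f F G hF hG hGfl u
  haveI := hK
  haveI hKq : (kernel u).IsQuasicoherent := inferInstance
  have hKft : (kernel u).IsFiniteType := inferInstance
  have hex := ShortComplex.kernelSequence_exact u
  haveI hepi : Epi (ShortComplex.kernelSequence u).g := inferInstanceAs (Epi u)
  have hex' : ((ShortComplex.kernelSequence u).map (Scheme.Modules.pullback p)).Exact :=
    hex.map_of_epi_of_preservesCokernel _ hepi inferInstance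
  have hzero_iff : IsZero ((Scheme.Modules.pullback p).obj (kernel u)) ↔
      ∀ x' : X', Subsingleton ((kernel u).presheaf.stalk (p x')) := by
    rw [isZero_iff_subsingleton_stalks]
    refine forall_congr' fun x' => ?_
    rw [← not_iff_not]
    exact support_pullback p (kernel u) hKft x'
  rw [← hzero_iff]
  constructor
  · intro hm
    have h0 : (Scheme.Modules.pullback p).map (kernel.ι u) = 0 := by
      rw [← cancel_mono ((Scheme.Modules.pullback p).map u), ← Functor.map_comp,
        kernel.condition, Functor.map_zero, zero_comp]
    rw [isZero_iff_subsingleton_stalks]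
    intro x'
    let e : cokernel (kernel.ι u) ≅ G :=
      IsColimit.coconePointUniqueUpToIso (cokernelIsCokernel (kernel.ι u)) hex.gIsCokernel
    have hIF : IF f (kernel.ι u) (p x') :=
      ⟨Groth.Agent.H1.CohLen.stalkFun_injective_of_mono _ _,
        isFlatOverAt_of_iso f e.symm (p x') (hGfl (p x'))⟩
    have h2 := (IF_pullback_of_isPullback f q p t hc hK hF (kernel.ι u) x' hIF).1
    rw [h0] at h2
    refine ⟨fun a b => h2 ?_⟩
    rw [stalkFun_zero_apply, stalkFun_zero_apply]
  · intro hz
    exact hex'.mono_g (hz.eq_of_src _ _)

end MonoPart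

end Groth.Agent.H3.IsoLocus
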