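import Groth.Agent.Lib.Helper3.IsoLocus.A
import Groth.Agent.Lib.Helper2.IdlR
import Groth.Agent.Lib.Lead.QC.Support
import Groth.Agent.Lib.Lead.QC.StalkPullback
import Groth.Agent.Lib.Lead.FPExt.Quot
import Groth.Agent.Lib.Helper5.Lim.ModuleIso

/-!
# The open locus of the base over which a map to a flat module becomes an isomorphism
-/

set_option autoImplicit false
universe u
open CategoryTheory CategoryTheory.Limits AlgebraicGeometry TopologicalSpace Opposite

namespace Groth.Agent.H3.IsoLocus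

open Groth.Agent.LD.QC Groth.Agent.H1.SchFlat Groth.Agent.H3.ArtFlat Groth.Agent.H3.InjLim

section Aux

/-- points of a pullback square over a pair of compatible points -/
lemma exists_preimage_of_isPullback {X S X' T : Scheme.{u}} {f : X ⟶ S} {p : X' ⟶ X}
    {q : X' ⟶ T} {t : T ⟶ S} (hc : IsPullback p q f t) (x : X) (τ : T) (h : f x = t τ) :
    ∃ x' : X', p x' = x ∧ q x' = τ := by
  obtain ⟨z, hz1, hz2⟩ := Scheme.Pullback.exists_preimage_pullback x τ h
  refine ⟨hc.isoPullback.inv z, ?_, ?_⟩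
  · rw [← hz1, ← Scheme.Hom.comp_apply, hc.isoPullback_inv_fst]
  · rw [← hz2, ← Scheme.Hom.comp_apply, hc.isoPullback_inv_snd]

lemma map_eq_of_isPullback {X S X' T : Scheme.{u}} {f : X ⟶ S} {p : X' ⟶ X}
    {q : X' ⟶ T} {t : T ⟶ S} (hc : IsPullback p q f t) (x' : X') : f (p x') = t (q x') := by
  rw [← Scheme.Hom.comp_apply, ← Scheme.Hom.comp_apply, hc.w]

/-- a pullback square whose first projection lands in an open subscheme is a pullback square
over that open subscheme -/
lemma isPullback_lift {X S X' T X₁ : Scheme.{u}} {f : X ⟶ S} {p : X' ⟶ X}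
    {q : X' ⟶ T} {t : T ⟶ S} (hc : IsPullback p q f t) (j : X₁ ⟶ X) [Mono j] (p₁ : X' ⟶ X₁)
    (hp : p₁ ≫ j = p) : IsPullback p₁ q (j ≫ f) t := by
  have h1 : IsPullback p₁ (𝟙 X') j p := by
    have ha : IsPullback p₁ (𝟙 X') (𝟙 X₁) p₁ := IsPullback.of_vert_isIso ⟨by simp⟩
    have hb : IsPullback (𝟙 X₁) (𝟙 X₁) j j := (IsKernelPair.id_of_mono j)
    have := ha.paste_horiz hb
    rwa [Category.comp_id, hp] at this
  have := h1.paste_vert hc
  rwa [Category.id_comp] at this

lemma mono_iff_of_conj {C : Type*} [Category C] {A B A' B' : C} (a : A ⟶ B) (b : A' ⟶ B')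
    (e₁ : A ⟶ A') (e₂ : B' ⟶ B) [IsIso e₁] [IsIso e₂] (h : a = e₁ ≫ b ≫ e₂) :
    Mono a ↔ Mono b := by
  rw [h, mono_comp_iff_of_isIso, mono_comp_iff_of_mono]

end Aux

section Main

variable {X S : Scheme.{u}} (f : X ⟶ S) [IsProper f] [LocallyOfFinitePresentation f]

set_option maxHeartbeats 1600000 in
/-- **the open locus where `u` becomes an isomorphism** (general pullback squares) -/
theorem exists_open_isIso_iff (F G : X.Modules) (hF : F.IsFinitePresentation)
    (hG : G.IsFinitePresentation) (hGfl : FlatMod.IsFlatOver f G) (u : F ⟶ G) :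
    ∃ U : S.Opens, QuasiCompact U.ι ∧
      ∀ (T X' : Scheme.{u}) (t : T ⟶ S) (p : X' ⟶ X) (q : X' ⟶ T), IsPullback p q f t →
        (IsIso ((Scheme.Modules.pullback p).map u) ↔ Set.range t ⊆ (U : Set S)) := by
  have := hF
  have := hG
  haveI hFq : F.IsQuasicoherent := inferInstance
  haveI hGq : G.IsQuasicoherent := inferInstance
  have hFft : F.IsFiniteType := inferInstance
  have hGft : G.IsFiniteType := inferInstance
  -- the cokernel and its support
  have hC : (cokernel u).IsFinitePresentation :=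
    Groth.Agent.LD.FPExt.isFinitePresentation_cokernel hFft hG u
  have := hC
  have hCft : (cokernel u).IsFiniteType := inferInstance
  have hZCcl : IsClosed {x : X | ¬ Subsingleton ((cokernel u).presheaf.stalk x)} :=
    isClosed_support_of_isFiniteType (cokernel u) hCft
  have hZCcons : Topology.IsLocallyConstructible
      {x : X | ¬ Subsingleton ((cokernel u).presheaf.stalk x)} :=
    Groth.Agent.H2.Idl.isLocallyConstructible_support (cokernel u) hC
  -- the open complement
  let X₁ : X.Opens := ⟨{x : X | ¬ Subsingleton ((cokernel u).presheaf.stalk x)}ᶜ,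
    hZCcl.isOpen_compl⟩
  haveI hjqc : QuasiCompact X₁.ι := quasiCompact_ι_of_isLocallyConstructible X₁
    (Groth.Agent.H1.CMCons.isLocallyConstructible_compl hZCcons)
  have hmemX₁ : ∀ x : X, x ∈ X₁ ↔ Subsingleton ((cokernel u).presheaf.stalk x) := by
    intro x
    change ¬ ¬ Subsingleton ((cokernel u).presheaf.stalk x) ↔ _
    exact not_not
  -- the restriction of `u` is an epimorphism
  have hF₁ : ((Scheme.Modules.pullback X₁.ι).obj F).IsFinitePresentation :=
    isFinitePresentation_pullback X₁.ι F hF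
  have hG₁ : ((Scheme.Modules.pullback X₁.ι).obj G).IsFinitePresentation :=
    isFinitePresentation_pullback X₁.ι G hG
  haveI hepi₁ : Epi ((Scheme.Modules.pullback X₁.ι).map u) := by
    rw [epi_pullback_iff X₁.ι hGft u]
    intro x
    exact (hmemX₁ _).mp x.2
  have hG₁fl : FlatMod.IsFlatOver (X₁.ι ≫ f) ((Scheme.Modules.pullback X₁.ι).obj G) := by
    intro x
    exact (isFlatOverAt_pullback_iff X₁.ι f G x (Flat.stalkMap X₁.ι x)).mp (hGfl _)
  -- the kernel and its support
  have hK : (kernel ((Scheme.Modules.pullback X₁.ι).map u)).IsFinitePresentation :=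
    isFinitePresentation_kernel (X₁.ι ≫ f) _ _ hF₁ hG₁ hG₁fl _
  have := hK
  have hKft : (kernel ((Scheme.Modules.pullback X₁.ι).map u)).IsFiniteType := inferInstance
  have hZKcl : IsClosed {x : X₁ | ¬ Subsingleton
      ((kernel ((Scheme.Modules.pullback X₁.ι).map u)).presheaf.stalk x)} :=
    isClosed_support_of_isFiniteType _ hKft
  have hZKcons : Topology.IsLocallyConstructible {x : X₁ | ¬ Subsingleton
      ((kernel ((Scheme.Modules.pullback X₁.ι).map u)).presheaf.stalk x)} :=
    Groth.Agent.H2.Idl.isLocallyConstructible_support _ hK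
  set ZC : Set X := {x : X | ¬ Subsingleton ((cokernel u).presheaf.stalk x)} with hZC
  set ZK : Set X₁ := {x : X₁ | ¬ Subsingleton
      ((kernel ((Scheme.Modules.pullback X₁.ι).map u)).presheaf.stalk x)} with hZK
  -- the bad locus in the base
  have hB₁cons : Topology.IsLocallyConstructible (f '' ZC) :=
    f.isLocallyConstructible_image hZCcons
  have hB₂cons : Topology.IsLocallyConstructible ((X₁.ι ≫ f) '' ZK) :=
    (X₁.ι ≫ f).isLocallyConstructible_image hZKcons
  have hBcl : IsClosed (f '' ZC ∪ (X₁.ι ≫ f) '' ZK) := by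
    have h1 : f '' ZC ∪ (X₁.ι ≫ f) '' ZK = f '' (ZC ∪ X₁.ι '' ZK) := by
      rw [Set.image_union, ← Set.image_comp]
      rfl
    rw [h1]
    refine f.isClosedMap _ ?_
    rw [← isOpen_compl_iff]
    have h2 : (ZC ∪ X₁.ι '' ZK)ᶜ = X₁.ι '' ZKᶜ := by
      ext x
      constructor
      · intro hx
        have hx1 : x ∈ X₁ := fun h => hx (Or.inl h)
        refine ⟨⟨x, hx1⟩, fun h => hx (Or.inr ⟨⟨x, hx1⟩, h, rfl⟩), rfl⟩
      · rintro ⟨y, hy, rfl⟩ (h | ⟨y', hy', hyy'⟩)
        · exact y.2 h
        · have : y' = y := X₁.ι.isOpenEmbedding.injective hyy'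
          exact hy (this ▸ hy')
    rw [h2]
    exact X₁.ι.isOpenEmbedding.isOpenMap _ hZKcl.isOpen_compl
  let U : S.Opens := ⟨(f '' ZC ∪ (X₁.ι ≫ f) '' ZK)ᶜ, hBcl.isOpen_compl⟩
  refine ⟨U, quasiCompact_ι_of_isLocallyConstructible U
    (Groth.Agent.H1.CMCons.isLocallyConstructible_compl (hB₁cons.union hB₂cons)), ?_⟩
  intro T X' t p q hc
  -- the epimorphism part
  have hE : Epi ((Scheme.Modules.pullback p).map u) ↔ ∀ x' : X', p x' ∈ X₁ := by
    rw [epi_pullback_iff p hGft u]
    exact forall_congr' fun x' => (hmemX₁ _).symm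
  -- the monomorphism part
  have hM : ∀ hp : (∀ x' : X', p x' ∈ X₁),
      (Mono ((Scheme.Modules.pullback p).map u) ↔ ∀ x' : X', (⟨p x', hp x'⟩ : X₁) ∉ ZK) := by
    intro hp
    have hrange : Set.range p ⊆ Set.range X₁.ι := by
      rintro _ ⟨x', rfl⟩
      rw [Scheme.Opens.range_ι]
      exact hp x'
    let p₁ : X' ⟶ X₁ := IsOpenImmersion.lift X₁.ι p hrange
    have hp₁ : p₁ ≫ X₁.ι = p := IsOpenImmersion.lift_fac _ _ _
    have hp₁pt : ∀ x' : X', p₁ x' = ⟨p x', hp x'⟩ := by
      intro x'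
      apply X₁.ι.isOpenEmbedding.injective
      rw [← Scheme.Hom.comp_apply, hp₁]
      rfl
    have hc₁ : IsPullback p₁ q (X₁.ι ≫ f) t := isPullback_lift hc X₁.ι p₁ hp₁
    rw [mono_iff_of_conj _ _ _ _
      (Groth.Agent.H5.Lim.pullback_map_eq_conj' p₁ X₁.ι p hp₁ u),
      mono_pullback_iff (X₁.ι ≫ f) hc₁ hF₁ hG₁ hG₁fl]
    refine forall_congr' fun x' => ?_
    rw [hp₁pt x']
    exact not_not.symm
  constructor
  · intro hiso
    have hp : ∀ x' : X', p x' ∈ X₁ := hE.mp inferInstance
    have hm := (hM hp).mp inferInstance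
    rintro _ ⟨τ, rfl⟩ (⟨x, hx, hxτ⟩ | ⟨y, hy, hyτ⟩)
    · obtain ⟨x', hx', -⟩ := exists_preimage_of_isPullback hc x τ hxτ
      have := hp x'
      rw [hx'] at this
      exact this hx
    · obtain ⟨x', hx', -⟩ := exists_preimage_of_isPullback hc (X₁.ι y) τ hyτ
      apply hm x'
      have : (⟨p x', hp x'⟩ : X₁) = y := Subtype.ext hx'
      rw [this]
      exact hy
  · intro hsub
    have hp : ∀ x' : X', p x' ∈ X₁ := by
      intro x' hx'
      have h1 : t (q x') ∈ (U : Set S) := hsub ⟨q x', rfl⟩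
      apply h1
      left
      exact ⟨p x', hx', map_eq_of_isPullback hc x'⟩
    haveI : Epi ((Scheme.Modules.pullback p).map u) := hE.mpr hp
    haveI : Mono ((Scheme.Modules.pullback p).map u) := by
      rw [hM hp]
      intro x' hx'
      have h1 : t (q x') ∈ (U : Set S) := hsub ⟨q x', rfl⟩
      apply h1
      right
      exact ⟨⟨p x', hp x'⟩, hx', map_eq_of_isPullback hc x'⟩
    exact isIso_of_mono_of_epi _

end Main

end Groth.Agent.H3.IsoLocus
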